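import Mathlib

/-! Binary forms over an algebraically closed field: common zeros and common factors. -/

namespace Groth.Agent.BinForm

open MvPolynomial

universe u

variable {k : Type u} [Field k]

theorem eval_smul_of_homogeneous {σ : Type*} {F : MvPolynomial σ k} {d : ℕ}
    (hF : F.IsHomogeneous d) (c : k) (v : σ → k) : eval (c • v) F = c ^ d * eval v F := by
  simp only [eval_eq, Finset.mul_sum, Pi.smul_apply, smul_eq_mul]
  refine Finset.sum_congr rfl fun e he => ?_
  rw [Finset.prod_congr rfl (fun i _ => mul_pow c (v i) (e i)), Finset.prod_mul_distrib,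
    Finset.prod_pow_eq_pow_sum,
    show ∑ i ∈ e.support, e i = d from by
      rw [← hF (mem_support_iff.1 he), Finsupp.weight_apply, Finsupp.sum]; simp]
  ring

/-- Component of a product with a homogeneous factor. -/
theorem comp_mul_homog {σ : Type*} {g : MvPolynomial σ k} {e : ℕ} (hg : g.IsHomogeneous e)
    (a : MvPolynomial σ k) (d : ℕ) :
    homogeneousComponent (e + d) (a * g) = homogeneousComponent d a * g := by
  classical
  conv_lhs => rw [← sum_homogeneousComponent a, Finset.sum_mul, map_sum]
  have h : ∀ j, homogeneousComponent (e + d) (homogeneousComponent j a * g) =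
      if e + d = j + e then homogeneousComponent j a * g else 0 := fun j =>
    homogeneousComponent_of_mem ((homogeneousComponent_isHomogeneous j a).mul hg)
  have h' : ∀ j, (e + d = j + e) ↔ j = d := fun j => by omega
  simp only [h, h', Finset.sum_ite_eq', Finset.mem_range]
  by_cases hj : d < a.totalDegree + 1
  · rw [if_pos hj]
  · rw [if_neg hj, homogeneousComponent_eq_zero d a (by omega), zero_mul]

/-- the linear form vanishing at `a` -/
noncomputable def line (a : Fin 2 → k) : MvPolynomial (Fin 2) k := C (a 1) * X 0 - C (a 0) * X 1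

theorem not_isUnit_line {a : Fin 2 → k} : ¬ IsUnit (line a) := by
  intro h
  have := h.map (eval (0 : Fin 2 → k))
  simp [line] at this

variable [IsAlgClosed k]

/-- A non-unit binary polynomial vanishes at a nonzero point. -/
theorem exists_zero {H : MvPolynomial (Fin 2) k} (hH : ¬ IsUnit H) :
    ∃ a : Fin 2 → k, a ≠ 0 ∧ eval a H = 0 := by
  by_contra hcon
  push Not at hcon
  have hX : ∀ i : Fin 2, ∃ m : ℕ, H ∣ X i ^ m := by
    intro i
    have : (X i : MvPolynomial (Fin 2) k) ∈ (Ideal.span {H}).radical := by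
      rw [← vanishingIdeal_zeroLocus_eq_radical (K := k)]
      intro x hx
      rcases eq_or_ne x 0 with rfl | hx0
      · simp
      · exfalso
        refine hcon x hx0 ?_
        have := hx H (Ideal.mem_span_singleton_self H)
        exact this
    obtain ⟨m, hm⟩ := this
    exact ⟨m, Ideal.mem_span_singleton.1 hm⟩
  obtain ⟨m, hm⟩ := hX 0
  obtain ⟨m', hm'⟩ := hX 1
  have hp : Prime (X 0 : MvPolynomial (Fin 2) k) := X_prime
  obtain ⟨i, _, hi⟩ := (dvd_prime_pow hp m).1 hm
  rcases Nat.eq_zero_or_pos i with rfl | hi0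
  · exact hH (isUnit_of_dvd_one (by simpa using hi.dvd))
  · have h1 : (X 0 : MvPolynomial (Fin 2) k) ∣ X 1 ^ m' :=
      ((dvd_pow_self _ hi0.ne').trans hi.symm.dvd).trans hm'
    have h2 := map_dvd (eval (![0, 1] : Fin 2 → k)) h1
    simp at h2

/-- A binary form vanishing at `a` is divisible by the line through `a`. -/
theorem line_dvd {F : MvPolynomial (Fin 2) k} {d : ℕ} (hF : F.IsHomogeneous d) {a : Fin 2 → k}
    (ha : a ≠ 0) (h : eval a F = 0) : line a ∣ F := by
  rcases eq_or_ne F 0 with rfl | hF0
  · exact dvd_zero _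
  have hd : d ≠ 0 := by
    rintro rfl
    have hC : F = C (coeff 0 F) := by
      rw [← homogeneousComponent_zero, homogeneousComponent_eq_self hF]
    rw [hC, eval_C] at h
    exact hF0 (by rw [hC, h, map_zero])
  have hmem : F ∈ (Ideal.span {line a}).radical := by
    rw [← vanishingIdeal_zeroLocus_eq_radical (K := k)]
    intro x hx
    have h1 := hx (line a) (Ideal.mem_span_singleton_self _)
    simp [line, sub_eq_zero] at h1
    have : ∃ c : k, x = c • a := by
      by_cases h0 : a 0 = 0
      · have ha1 : a 1 ≠ 0 := fun h' => ha (by funext i; fin_cases i <;> simp [h0, h'])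
        refine ⟨x 1 / a 1, funext fun i => ?_⟩
        fin_cases i
        · have : x 0 = 0 := by
            rw [h0, zero_mul] at h1
            exact (mul_eq_zero.1 h1).resolve_left ha1
          simp [this, h0]
        · simp [ha1]
      · refine ⟨x 0 / a 0, funext fun i => ?_⟩
        fin_cases i
        · simp [h0]
        · simp only [Fin.mk_one, Pi.smul_apply, smul_eq_mul]
          field_simp
          linear_combination -h1
    obtain ⟨c, rfl⟩ := this
    show eval (c • a) F = 0
    rw [eval_smul_of_homogeneous hF, h, mul_zero]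
  -- the line is a prime element
  have hprime : (Ideal.span {line a}).IsPrime := by
    let φ : MvPolynomial (Fin 2) k →ₐ[k] Polynomial k := aeval fun i => Polynomial.C (a i) * Polynomial.X
    suffices Ideal.span {line a} = RingHom.ker φ by rw [this]; exact RingHom.ker_isPrime φ
    have hker : line a ∈ RingHom.ker φ := by
      simp [RingHom.mem_ker, φ, line]; ring
    refine le_antisymm ((Ideal.span_singleton_le_iff_mem _).2 hker) ?_
    let q := Ideal.Quotient.mkₐ k (Ideal.span {line a})
    have hl : q (line a) = 0 := Ideal.Quotient.eq_zero_iff_mem.2 (Ideal.mem_span_singleton_self _)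
    replace hl : q (C (a 1) * X 0 - C (a 0) * X 1) = 0 := hl
    rw [map_sub q, sub_eq_zero, map_mul q, map_mul q] at hl
    obtain ⟨t, ht⟩ : ∃ t, ∀ i, q (X i) = q (C (a i)) * t := by
      by_cases h0 : a 0 = 0
      · have ha1 : a 1 ≠ 0 := fun h' => ha (by funext i; fin_cases i <;> simp [h0, h'])
        refine ⟨q (C (a 1)⁻¹) * q (X 1), fun i => ?_⟩
        rw [← mul_assoc, ← map_mul q, ← C_mul]
        fin_cases i
        · simp [h0] at hl ⊢
          exact (((Ne.isUnit ha1).map (algebraMap k _)).mul_right_eq_zero).1 hl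
        · simp [ha1]
      · refine ⟨q (C (a 0)⁻¹) * q (X 0), fun i => ?_⟩
        rw [← mul_assoc, ← map_mul q, ← C_mul]
        fin_cases i
        · simp [h0]
        · simp only [Fin.mk_one]
          rw [C_mul, map_mul, mul_comm (q (C (a 1))), mul_assoc, hl, ← mul_assoc, ← map_mul q,
            ← C_mul, inv_mul_cancel₀ h0, map_one, map_one, one_mul]
    have hq : q = (Polynomial.aeval t).comp φ := by
      refine algHom_ext fun i => ?_
      simp only [AlgHom.comp_apply, φ, aeval_X, map_mul, Polynomial.aeval_C, Polynomial.aeval_X]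
      rw [ht i]
      congr 1
    intro x hx
    rw [RingHom.mem_ker] at hx
    exact Ideal.Quotient.eq_zero_iff_mem.1 (show q x = 0 by rw [hq, AlgHom.comp_apply, hx, map_zero])
  exact Ideal.mem_span_singleton.1 (hprime.radical.le hmem)

theorem common_factor_iff {n : ℕ} (F : Fin n → MvPolynomial (Fin 2) k) (d : Fin n → ℕ)
    (hF : ∀ i, (F i).IsHomogeneous (d i)) :
    (∃ H : MvPolynomial (Fin 2) k, ¬ IsUnit H ∧ ∀ i, H ∣ F i) ↔
      ∃ a : Fin 2 → k, a ≠ 0 ∧ ∀ i, eval a (F i) = 0 := by
  constructor
  · rintro ⟨H, hH, hdvd⟩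
    obtain ⟨a, ha, h0⟩ := exists_zero hH
    exact ⟨a, ha, fun i => by
      obtain ⟨G, hG⟩ := hdvd i
      rw [hG, map_mul, h0, zero_mul]⟩
  · rintro ⟨a, ha, h0⟩
    exact ⟨line a, not_isUnit_line, fun i => line_dvd (hF i) ha (h0 i)⟩

theorem exists_saturation {n : ℕ} (F : Fin n → MvPolynomial (Fin 2) k) (d : ℕ)
    (hF : ∀ i, (F i).IsHomogeneous d) :
    (¬ ∃ H : MvPolynomial (Fin 2) k, ¬ IsUnit H ∧ ∀ i, H ∣ F i) ↔
      ∃ m : ℕ, d ≤ m ∧ ∀ P : MvPolynomial (Fin 2) k, P.IsHomogeneous m →
        ∃ G : Fin n → MvPolynomial (Fin 2) k,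
          (∀ i, (G i).IsHomogeneous (m - d)) ∧ P = ∑ i, F i * G i := by
  rw [common_factor_iff F (fun _ => d) hF]
  constructor
  · intro hno
    set I := Ideal.span (Set.range F) with hI
    have hX : ∀ j : Fin 2, ∃ N : ℕ, (X j : MvPolynomial (Fin 2) k) ^ N ∈ I := by
      intro j
      have : (X j : MvPolynomial (Fin 2) k) ∈ I.radical := by
        rw [← vanishingIdeal_zeroLocus_eq_radical (K := k)]
        intro x hx
        rcases eq_or_ne x 0 with rfl | hx0
        · simp
        · exfalso
          refine hno ⟨x, hx0, fun i => ?_⟩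
          have := hx (F i) (Ideal.subset_span ⟨i, rfl⟩)
          exact this
      exact this
    obtain ⟨N, hN⟩ := hX 0
    obtain ⟨N', hN'⟩ := hX 1
    refine ⟨d + N + N', by omega, fun P hP => ?_⟩
    have hPI : P ∈ I := by
      rw [P.as_sum]
      refine Ideal.sum_mem _ fun e he => ?_
      have hdeg : e 0 + e 1 = d + N + N' := by
        have := hP (mem_support_iff.1 he)
        rw [Finsupp.weight_apply, Finsupp.sum_fintype _ _ (fun i => by simp)] at this
        simpa [Fin.sum_univ_two] using this
      have hme : monomial e (coeff e P) = C (coeff e P) * (X 0 ^ e 0 * X 1 ^ e 1) := by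
        rw [monomial_eq, Finsupp.prod_fintype _ _ (fun i => pow_zero _), Fin.prod_univ_two]
      rw [hme]
      refine Ideal.mul_mem_left _ _ ?_
      rcases le_or_gt N (e 0) with h | h
      · exact Ideal.mul_mem_right _ _ (I.pow_mem_of_pow_mem hN h)
      · exact Ideal.mul_mem_left _ _ (I.pow_mem_of_pow_mem hN' (by omega))
    obtain ⟨G, hG⟩ := Ideal.mem_span_range_iff_exists_fun.1 hPI
    refine ⟨fun i => homogeneousComponent (N + N') (G i), fun i => ?_, ?_⟩
    · rw [show d + N + N' - d = N + N' by omega]
      exact homogeneousComponent_isHomogeneous _ _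
    · have := congrArg (homogeneousComponent (d + N + N')) hG
      rw [homogeneousComponent_eq_self hP, map_sum] at this
      rw [← this]
      refine Finset.sum_congr rfl fun i _ => ?_
      rw [add_assoc, comp_mul_homog (hF i), mul_comm]
  · rintro ⟨m, _, hall⟩ ⟨a, ha, h0⟩
    obtain ⟨j, hj⟩ : ∃ j, a j ≠ 0 := Function.ne_iff.1 ha
    obtain ⟨G, _, hG⟩ := hall (X j ^ m) (isHomogeneous_X_pow j m)
    have := congrArg (eval a) hG
    simp [h0, hj] at this

end Groth.Agent.BinForm
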